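import Mathlib
import Groth.Agent.Lib.Helper24.FibreDim.Main3391
import Groth.Agent.Lib.Helper24.FibreDim.Main4943
import Groth.Agent.Lib.Helper24.FibreDim.EquidimConv
import Groth.Agent.Lib.lead.FlatEquidim
import Groth.Agent.Lib.lead.FibreDimTarget
import Groth.Prelude.Def_Cyc

/-!
# Flat morphisms of irreducible schemes over a universally catenary base have constant fibre
dimension (helper24)
-/

set_option autoImplicit false
set_option linter.style.haveILetI false
universe u
open AlgebraicGeometry CategoryTheory CategoryTheory.Limits Groth.Agent.Lib.Helper7 Groth.Agent.Lib.lead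
  Groth.Agent.Lib.Helper18 Groth.Agent.Lib.Helper24.FibreDim

namespace Groth.Agent.Lib.Helper24.FlatRelDim

variable {X Y : Scheme.{u}}

/-- For a flat morphism locally of finite type over a locally Noetherian base, a point that is
maximal in its fibre has the same codimension as its image. -/
theorem coheight_eq_of_flat_of_G_eq_zero [IsLocallyNoetherian Y] (f : X ⟶ Y) [Flat f]
    [LocallyOfFiniteType f] (w : X)
    (hG : FibreOrder.G f w = 0) : Order.coheight w = Order.coheight (f w) := by
  apply le_antisymm _ (FlatEquidim.coheight_le_of_flat f w)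
  have h2 := StalkDimIneq.main f w
  rw [ringKrullDim_stalk_eq_coheight, ringKrullDim_stalk_eq_coheight,
    FibreOrder.ringKrullDim_fiber_stalk f w, hG] at h2
  have h3 : ((Order.coheight w : ℕ∞) : WithBot ℕ∞) ≤ ((Order.coheight (f w) : ℕ∞) : WithBot ℕ∞) := by
    simpa using h2
  exact_mod_cast h3

theorem map_genericPoint_of_flat [IrreducibleSpace X] [IrreducibleSpace Y] (f : X ⟶ Y) [Flat f] :
    f (genericPoint ↥X) = genericPoint ↥Y := by
  obtain ⟨ξ', hξ', hfξ'⟩ := (Flat.generalizingMap f)
    (_root_.genericPoint_specializes (f (genericPoint ↥X)))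
  have : ξ' = genericPoint ↥X :=
    (Specializes.antisymm hξ' (_root_.genericPoint_specializes ξ')).eq
  rw [← this, hfξ']

theorem denseRange_of_flat [IrreducibleSpace X] [IrreducibleSpace Y] (f : X ⟶ Y) [Flat f] :
    DenseRange f.base := by
  intro y
  have h1 : genericPoint ↥Y ∈ Set.range f.base := ⟨genericPoint ↥X, map_genericPoint_of_flat f⟩
  have h2 : y ∈ closure ({genericPoint ↥Y} : Set Y) := by
    rw [(genericPoint_spec Y).def]; trivial
  exact closure_mono (Set.singleton_subset_iff.mpr h1) h2

/-- The residue transcendence degree is constant on fibre-maximal points. -/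
theorem tr_eq_of_max [IsLocallyNoetherian Y] [IrreducibleSpace X] [IrreducibleSpace Y]
    (f : X ⟶ Y) [Flat f] [LocallyOfFiniteType f]
    (hcat : ∀ y : Y, CAlg.IsUniversallyCatenary (Y.presheaf.stalk y)) (w : X)
    (hmax : ∀ z : X, f z = f w → z ⤳ w → z = w) : tr f w = tr f (genericPoint ↥X) := by
  have hG : FibreOrder.G f w = 0 := (G_eq_zero_iff f w).mpr hmax
  have h1 := coheight_eq_of_flat_of_G_eq_zero f w hG
  have h2 := coheight_add_tr_eq_local f (denseRange_of_flat f) w (hcat (f w))
  rw [h1] at h2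
  have h3 : Order.coheight (f w) ≠ ⊤ := coheight_ne_top Y (f w)
  have h4 : ((tr f w : ℕ) : ℕ∞) = ((tr f (genericPoint ↥X) : ℕ) : ℕ∞) :=
    ENat.add_right_injective_of_ne_top h3 h2
  exact_mod_cast h4

theorem fibreDimAt_eq [IsLocallyNoetherian Y] [IrreducibleSpace X] [IrreducibleSpace Y]
    (f : X ⟶ Y) [Flat f] [LocallyOfFiniteType f]
    (hcat : ∀ y : Y, CAlg.IsUniversallyCatenary (Y.presheaf.stalk y)) (x : X) :
    FlatMor.fibreDimAt f x = ((tr f (genericPoint ↥X) : ℕ) : WithBot ℕ∞) := by
  obtain ⟨z, hz, hzx, hmax, htr⟩ := exists_max_tr f x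
  rw [← htr, tr_eq_of_max f hcat z hmax]

theorem le_of_forall_nat_le (a : WithBot ℕ∞) (d : ℕ)
    (h : ∀ n : ℕ, (n : WithBot ℕ∞) ≤ a → n ≤ d) : a ≤ (d : WithBot ℕ∞) := by
  induction a using WithBot.recBotCoe with
  | bot => exact bot_le
  | coe a =>
    induction a using ENat.recTopCoe with
    | top =>
      have := h (d + 1) (by exact_mod_cast le_top)
      omega
    | coe m =>
      have := h m le_rfl
      exact_mod_cast this

theorem dim_fiber_eq [IsLocallyNoetherian Y] [IrreducibleSpace X] [IrreducibleSpace Y]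
    (f : X ⟶ Y) [Flat f] [LocallyOfFiniteType f]
    (hcat : ∀ y : Y, CAlg.IsUniversallyCatenary (Y.presheaf.stalk y)) (x : X) :
    topologicalKrullDim ↥(f.fiber (f x)) = ((tr f (genericPoint ↥X) : ℕ) : WithBot ℕ∞) := by
  apply le_antisymm
  · apply le_of_forall_nat_le
    intro n hn
    obtain ⟨x', -, hx'⟩ := (FibreDimTarget.le_dim_fibre_iff f (f x) n).mp hn
    rw [fibreDimAt_eq f hcat x'] at hx'
    exact_mod_cast hx'
  · rw [FibreDimTarget.le_dim_fibre_iff]
    exact ⟨x, rfl, (fibreDimAt_eq f hcat x).ge⟩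

/-- An irreducible component of a fibre: its generic point is fibre-maximal and its dimension is
the residue transcendence degree there. -/
theorem exists_max_of_component (f : X ⟶ Y) [LocallyOfFiniteType f] (y : Y)
    (Z : Set ↥(f.fiber y)) (hZ : Z ∈ irreducibleComponents ↥(f.fiber y)) :
    ∃ v : X, f v = y ∧ (∀ z : X, f z = f v → z ⤳ v → z = v) ∧
      topologicalKrullDim ↥Z = ((tr f v : ℕ) : WithBot ℕ∞) := by
  have hZirr : IsIrreducible Z := hZ.1
  have hZcl : IsClosed Z := isClosed_of_mem_irreducibleComponents Z hZ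
  obtain ⟨z, hz⟩ := QuasiSober.sober hZirr hZcl
  have hZeq : Z = closure {z} := hz.def.symm
  set v : X := f.fiberι y z with hv
  have hfv : f v = y := by
    have : v ∈ Set.range (f.fiberι y) := ⟨z, rfl⟩
    rw [f.range_fiberι] at this
    exact this
  refine ⟨v, hfv, ?_, ?_⟩
  · have hind : Topology.IsInducing (f.fiberι y) := (f.fiberι y).isEmbedding.isInducing
    intro t ht hsp
    have : t ∈ Set.range (f.fiberι y) := by
      rw [f.range_fiberι]
      exact ht.trans hfv
    obtain ⟨w, rfl⟩ := this
    have hwz : w ⤳ z := hind.specializes_iff.mp hsp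
    have hsub : Z ⊆ closure {w} := by
      rw [hZeq]
      exact closure_minimal (Set.singleton_subset_iff.mpr hwz.mem_closure) isClosed_closure
    have hirr : IsIrreducible (closure ({w} : Set ↥(f.fiber y))) :=
      isIrreducible_singleton.closure
    have hle : closure ({w} : Set ↥(f.fiber y)) ⊆ Z := hZ.2 hirr hsub
    have hzw : z ⤳ w := by
      rw [specializes_iff_mem_closure, ← hZeq]
      exact hle (subset_closure rfl)
    have : w = z := (Specializes.antisymm hwz hzw).eq
    rw [this]
  · rw [hZeq]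
    exact dim_closure_fibre_point f y v hfv z rfl

theorem main17840 (f : X ⟶ Y) [Flat f] [LocallyOfFiniteType f]
    [IrreducibleSpace X] [IrreducibleSpace Y] (δX : X → ℤ) (δY : Y → ℤ) (hY : Cyc.IsSetup Y δY)
    (hδ : Cyc.DeltaCompat f δX δY) :
    0 ≤ δX (genericPoint X) - δY (genericPoint Y) ∧
      Cyc.HasRelDim f (δX (genericPoint X) - δY (genericPoint Y)).toNat ∧
      ∀ x : X, topologicalKrullDim ↥(f.fiber (f x)) =
        ((δX (genericPoint X) - δY (genericPoint Y)).toNat : WithBot ℕ∞) := by
  haveI : IsLocallyNoetherian Y := hY.1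
  have hcat := hY.2.1
  have hd : δX (genericPoint X) - δY (genericPoint Y) = (tr f (genericPoint ↥X) : ℤ) := by
    obtain ⟨n, hn1, hn2⟩ := hδ (genericPoint X)
    rw [tr_spec f (genericPoint X)] at hn1
    have : tr f (genericPoint ↥X) = n := by exact_mod_cast hn1
    rw [hn2, map_genericPoint_of_flat f, this]
    ring
  rw [hd]
  refine ⟨Int.natCast_nonneg _, ?_, ?_⟩
  · intro y T hT
    obtain ⟨v, -, hmax, hdim⟩ := exists_max_of_component f y T hT
    rw [hdim, tr_eq_of_max f hcat v hmax]
    simp
  · intro x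
    rw [dim_fiber_eq f hcat x]
    simp

end Groth.Agent.Lib.Helper24.FlatRelDim
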